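import Cfsg.Agent.A8Type.Cz.Cases
import Cfsg.Agent.Cent32.Nine
import Cfsg.Agent.Cent32.Emb

/-!
The centralizer of the central involution without core and with the rotation inverted by `E23`: the
group is the alternating group of degree eight or nine.
-/

set_option autoImplicit false
set_option maxRecDepth 8000

namespace Cfsg.Agent.A8Type

open Subgroup

/-- The number of involutions commuting with two given elements, and one. -/
def mCount (a b : M12Cent.M) : ℕ :=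
  (Finset.univ.filter fun c : M12Cent.M => c * c = 1 ∧ c * a = a * c ∧ c * b = b * c).card

/-- The model of the centralizer in the Mathieu group has no elementary abelian subgroup of order
sixteen. -/
theorem m_no_sixteen : ∀ a : M12Cent.M, (a * a = 1 ∧ a ≠ 1 ∧ a ≠ M12Cent.M.zM) →
    ∀ b : M12Cent.M, (b * b = 1 ∧ a * b = b * a ∧ b ≠ 1 ∧ b ≠ M12Cent.M.zM ∧ b ≠ a ∧
      b ≠ a * M12Cent.M.zM) → mCount a b < 16 := by
  decide +kernel

namespace UT

theorem end_facts : (∀ q ∈ QS, rho 1 0 q = q → q = 1 ∨ q = zs) ∧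
    (∀ a ∈ QS, ∀ b ∈ QS, a * b = b * a ∨ a * b = zs * (b * a)) ∧
    x24 ∈ AS ∧ x13 ∈ AS ∧ x13 ∈ QS ∧ x13 ≠ zs ∧ x13 ≠ 1 ∧ x24 ≠ 1 ∧ x24 ≠ zs ∧
    x13 ≠ x24 ∧ x13 ≠ x24 * zs := by
  refine ⟨by decide +kernel, by decide +kernel, by decide +kernel, by decide +kernel, by decide +kernel,
    by decide +kernel, by decide +kernel, by decide +kernel, by decide +kernel, by decide +kernel,
    by decide +kernel⟩

end UT

namespace Base

variable {G : Type*} [Group G] [Finite G] (B : Base G) (h : B.Simp)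
include h

/-- The centralizer of `z` as the extraspecial subgroup extended by the symmetric group of degree
three. -/
theorem cent32_base (ht : theta B.z = ⊥) (h10 : B.Rot 1 0) (h01 : ¬ B.Rot 0 1) :
    ∃ x y : G, Cent32.Base B.z B.Q x y := by
  classical
  obtain ⟨n, hnz, hn⟩ := h10
  obtain ⟨fixQ, hcomm, -⟩ := UT.end_facts
  have hcent : ∀ w : G, Commute w B.z → (∀ q ∈ QS, w * B.f q * w⁻¹ = B.f q) →
      ∃ s ∈ [1, zs], w = B.f s := by
    intro w hw hq
    obtain ⟨o, ho, s, hs, rfl⟩ :=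
      B.cent_Q h hw fun q hqQ => mul_inv_eq_iff_eq_mul.1 (hq q hqQ)
    rw [ht, mem_bot] at ho
    exact ⟨s, hs, by rw [ho, one_mul]⟩
  have hc2 : ∀ {s : UT}, s ∈ [1, zs] → B.f s * B.f s = 1 ∧ s ∈ QS := by
    intro s hs
    simp only [List.mem_cons, List.not_mem_nil, or_false] at hs
    rcases hs with rfl | rfl
    · exact ⟨by rw [map_one, one_mul], one_mem _⟩
    · exact ⟨by rw [← map_mul, UT.zs_facts.2.1, map_one], UT.QS_facts.2.1⟩
  -- an element of order three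
  have h3 : ∀ q ∈ QS, n ^ 3 * B.f q * (n ^ 3)⁻¹ = B.f q := by
    intro q hq
    have e1 := UT.rho_mem 1 0 q hq
    rw [cube_conj, hn q hq, hn _ e1, hn _ (UT.rho_mem 1 0 _ e1), UT.rho_add 1 0 1 0 q hq,
      UT.rho_add 1 0 _ _ q hq, add_zero, add_zero, show (1 : Fin 3) + (1 + 1) = 0 by decide,
      UT.rho_zero q hq]
  obtain ⟨s0, hs0, hn3⟩ := hcent _ (hnz.pow_left 3) h3
  set x := n ^ 4 with hx
  have hxz : Commute x B.z := hnz.pow_left 4
  have hxa : B.Acts x (rho 1 0) := by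
    intro q hq
    rw [hx, show n ^ 4 = n ^ 3 * n from pow_succ n 3,
      show n ^ 3 * n * B.f q * (n ^ 3 * n)⁻¹ = n ^ 3 * (n * B.f q * n⁻¹) * (n ^ 3)⁻¹ by group,
      hn q hq, h3 _ (UT.rho_mem 1 0 q hq)]
  have hx3 : x ^ 3 = 1 := by
    rw [hx, ← pow_mul, show 4 * 3 = 3 * (2 * 2) by norm_num, pow_mul, hn3, pow_mul, sq (B.f s0),
      (hc2 hs0).1, one_pow]
  set y := B.f UT.x23 with hy
  have hyy : y * y = 1 := by rw [hy, ← map_mul, UT.QS_gen_invol.2.2.2.2.2.1, map_one]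
  have hyi : y⁻¹ = y := inv_eq_of_mul_eq_one_right hyy
  have hyx : y * x * y⁻¹ = x⁻¹ := by
    have h1 := B.acts_conj23 hxa
    rw [← hy, hyi] at h1
    have h2 : B.Acts (x * (y * x * y)) (rho 0 0) := fun q hq => by
      rw [B.acts_comp hxa h1 (UT.rho_mem _ _) q hq]
      dsimp only
      rw [UT.rho_add 1 0 _ _ q hq, show (1 : Fin 3) + -1 = 0 by decide, add_zero]
    obtain ⟨s, hs, he⟩ := hcent (x * (y * x * y))
      (hxz.mul_left (((B.comm_z _).mul_left hxz).mul_left (B.comm_z _)))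
      fun q hq => by rw [h2 q hq, UT.rho_zero q hq]
    have hyxy : y * x * y = x⁻¹ * B.f s := by rw [← he, inv_mul_cancel_left]
    have hcx : Commute x⁻¹ (B.f s) := by
      simp only [List.mem_cons, List.not_mem_nil, or_false] at hs
      rcases hs with rfl | rfl
      · rw [map_one]; exact Commute.one_right _
      · exact hxz.inv_left
    have hcube : (y * x * y) ^ 3 = 1 := by
      nth_rewrite 2 [← hyi]
      rw [conj_pow, hx3, mul_one, mul_inv_cancel]
    rw [hyxy, hcx.mul_pow, inv_pow, hx3, inv_one, one_mul, pow_succ, sq, (hc2 hs).1, one_mul] at hcube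
    rw [hyi, hyxy, hcube, mul_one]
  have hQ : ∀ {g : G}, g ∈ B.Q ↔ ∃ q ∈ QS, g = B.f q :=
    fun {g} => ⟨fun ⟨q, hq, e⟩ => ⟨q, hq, e.symm⟩, fun ⟨q, hq, e⟩ => ⟨q, hq, e.symm⟩⟩
  have hcover : ∀ g : G, g * B.z = B.z * g →
      ∃ q ∈ B.Q, ∃ (i : Fin 3) (j : Fin 2), g = q * x ^ i.1 * y ^ j.1 := by
    intro g hg
    obtain ⟨o, ho, s, m, ⟨hmz, i, j, hm⟩, rfl⟩ := B.exists_spl h hg
    rw [ht, mem_bot] at ho
    obtain rfl : j = 0 := by_contra fun e => h01 ((B.rot_split (⟨m, hmz, hm⟩ : B.Rot i j)).2 e)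
    have hxi : B.Acts (x ^ (i : ℕ)) (rho i 0) := by
      intro q hq
      fin_cases i
      · show x ^ 0 * B.f q * (x ^ 0)⁻¹ = B.f (rho 0 0 q)
        rw [UT.rho_zero q hq]; group
      · show x ^ 1 * B.f q * (x ^ 1)⁻¹ = B.f (rho 1 0 q)
        rw [pow_one]; exact hxa q hq
      · show x ^ 2 * B.f q * (x ^ 2)⁻¹ = B.f (rho 2 0 q)
        rw [sq, B.acts_comp hxa hxa (UT.rho_mem _ _) q hq]
        dsimp only
        rw [UT.rho_add 1 0 1 0 q hq]
        rfl
    obtain ⟨c, hc, he⟩ := hcent ((x ^ (i : ℕ))⁻¹ * m) ((hxz.pow_left _).inv_left.mul_left hmz)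
      fun q hq => by
        rw [show (x ^ (i : ℕ))⁻¹ * m * B.f q * ((x ^ (i : ℕ))⁻¹ * m)⁻¹ =
          (x ^ (i : ℕ))⁻¹ * (m * B.f q * m⁻¹) * x ^ (i : ℕ) by group, hm q hq, ← hxi q hq]
        group
    have hme : m = x ^ (i : ℕ) * B.f c := by rw [← he, mul_inv_cancel_left]
    have hcc : ∀ g : G, Commute g B.z → Commute g (B.f c) := by
      intro g hg
      simp only [List.mem_cons, List.not_mem_nil, or_false] at hc
      rcases hc with rfl | rfl
      · rw [map_one]; exact Commute.one_right _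
      · exact hg
    rw [ho, one_mul, hme, (hcc _ (hxz.pow_left _)).eq]
    by_cases hs : s ∈ QS
    · exact ⟨_, hQ.2 ⟨s * c, mul_mem hs (hc2 hc).2, rfl⟩, i, 0, by rw [map_mul]; simp [mul_assoc]⟩
    · obtain ⟨q, hq, rfl⟩ := UT.QS_facts.2.2.2.2 s hs
      refine ⟨_, hQ.2 ⟨UT.x23 * (q * c) * UT.x23⁻¹, UT.QS_facts.2.2.1 _ (mul_mem hq (hc2 hc).2) _, rfl⟩,
        -i, 1, ?_⟩
      have hxneg : y * x ^ (i : ℕ) * y⁻¹ = x ^ ((-i : Fin 3) : ℕ) := by
        rw [← conj_pow, hyx]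
        have hi : x⁻¹ = x ^ 2 := inv_eq_of_mul_eq_one_right (by rw [← pow_succ', hx3])
        fin_cases i
        · show x⁻¹ ^ 0 = x ^ 0
          rw [pow_zero, pow_zero]
        · show x⁻¹ ^ 1 = x ^ 2
          rw [pow_one, hi]
        · show x⁻¹ ^ 2 = x ^ 1
          rw [hi, ← pow_mul, show 2 * 2 = 3 + 1 by norm_num, pow_succ, hx3, one_mul, pow_one]
      rw [B.conj_f, map_mul, map_mul, ← hxneg, ← hy]
      show _ = _ * y ^ 1
      rw [pow_one]
      group
  refine ⟨x, y, ⟨B.orderOf_z, hQ.2 ⟨zs, UT.QS_facts.2.1, rfl⟩, B.card_Q, ?_, ?_, ?_, ?_, ?_, hx3,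
    hxz.eq, (B.comm_z _).eq, ?_, ?_, hyx, Or.inl hyy, hcover, ?_⟩⟩
  · rintro _ ⟨q, -, rfl⟩
    exact (B.comm_z q).eq
  · rintro _ ⟨a, ha, rfl⟩ _ ⟨b, hb, rfl⟩
    rw [← map_mul, ← map_mul, show B.z = B.f zs from rfl, ← map_mul]
    exact (hcomm a ha b hb).imp (congrArg B.f) (congrArg B.f)
  · rintro _ ⟨a, ha, rfl⟩
    rw [← map_mul, show B.z = B.f zs from rfl, ← map_one B.f]
    exact (UT.QS_facts.1 a ha).imp (congrArg B.f) (congrArg B.f)
  · rintro _ ⟨w, -, rfl⟩ hw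
    rcases UT.QS_facts.2.2.2.1 w fun q hq => B.inj (by
      rw [map_mul, map_mul]; exact (hw _ (mem_map_of_mem _ hq)).symm) with e | e
    · exact Or.inl (by rw [e, map_one])
    · exact Or.inr (by rw [e]; rfl)
  · intro g hg q hq
    obtain ⟨r, hr, rfl⟩ := hq
    obtain ⟨o, ho, q', hq', he⟩ := B.Q_normal h (g := g) hg hr
    rw [ht, mem_bot] at ho
    exact hQ.2 ⟨q', hq', by rw [he, ho, one_mul]⟩
  · rintro _ ⟨q, hq, rfl⟩ hc
    have h1 := hxa q hq
    rw [← hc, mul_inv_cancel_right] at h1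
    rcases fixQ q hq (B.inj h1).symm with e | e
    · exact Or.inl (by rw [e, map_one])
    · exact Or.inr (by rw [e]; rfl)
  · rintro ⟨q, hq, he⟩
    have h1 := hxa q hq
    rw [← he, mul_inv_cancel_right] at h1
    rcases fixQ q hq (B.inj h1).symm with e | e
    · have hxeq : x = 1 := by rw [← he, e, map_one]
      have h13 := hxa UT.x13 UT.end_facts.2.2.2.2.1
      rw [hxeq, one_mul, inv_one, mul_one] at h13
      rcases fixQ _ UT.end_facts.2.2.2.2.1 (B.inj h13).symm with e' | e'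
      exacts [UT.end_facts.2.2.2.2.2.2.1 e', UT.end_facts.2.2.2.2.2.1 e']
    · have hxeq : x = B.z := by rw [← he, e]; rfl
      rw [hxeq, pow_succ, sq, show B.z * B.z = 1 by
        rw [← sq, ← B.orderOf_z, pow_orderOf_eq_one], one_mul] at hx3
      exact UT.zs_facts.1 (B.inj (hx3.trans (map_one B.f).symm))
  · -- the order
    set C := centralizer ({B.z} : Set G)
    have hle : Nat.card C ≤ 192 := by
      have hm : ∀ p : B.Q × Fin 3 × Fin 2, (p.1 : G) * x ^ p.2.1.1 * y ^ p.2.2.1 ∈ C := by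
        rintro ⟨⟨_, q, -, rfl⟩, i, j⟩
        exact mem_centralizer_singleton_iff.2
          (((B.comm_z q).mul_left (hxz.pow_left _)).mul_left ((B.comm_z _).pow_left _)).eq
      have hsur : Function.Surjective fun p : B.Q × Fin 3 × Fin 2 => (⟨_, hm p⟩ : C) := by
        rintro ⟨g, hg⟩
        obtain ⟨q, hq, i, j, rfl⟩ := hcover g (mem_centralizer_singleton_iff.1 hg)
        exact ⟨(⟨q, hq⟩, i, j), rfl⟩
      refine (Nat.card_le_card_of_surjective _ hsur).trans ?_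
      rw [Nat.card_prod, Nat.card_prod, B.card_Q, Nat.card_eq_fintype_card, Nat.card_eq_fintype_card,
        Fintype.card_fin, Fintype.card_fin]
    have h64 : 64 ∣ Nat.card C := B.card_range ▸ card_dvd_of_le B.range_le
    have hx1 : x ∈ C := mem_centralizer_singleton_iff.2 hxz.eq
    have h3d : 3 ∣ Nat.card C := by
      have hox : orderOf (⟨x, hx1⟩ : C) = 3 := by
        rw [Subgroup.orderOf_mk]
        haveI : Fact (Nat.Prime 3) := ⟨Nat.prime_three⟩
        refine orderOf_eq_prime hx3 fun e => ?_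
        have h13 := hxa UT.x13 UT.end_facts.2.2.2.2.1
        rw [e, one_mul, inv_one, mul_one] at h13
        rcases fixQ _ UT.end_facts.2.2.2.2.1 (B.inj h13).symm with e' | e'
        exacts [UT.end_facts.2.2.2.2.2.2.1 e', UT.end_facts.2.2.2.2.2.1 e']
      exact hox ▸ orderOf_dvd_natCard _
    have h192 := Nat.Coprime.mul_dvd_of_dvd_of_dvd (by norm_num : Nat.Coprime 64 3) h64 h3d
    exact le_antisymm hle (Nat.le_of_dvd Nat.card_pos h192)

/-- The alternating groups. -/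
theorem recog_alt (ht : theta B.z = ⊥) (h10 : B.Rot 1 0) (h01 : ¬ B.Rot 0 1)
    (h13 : IsConj B.z (B.f UT.x13)) :
    Nonempty (G ≃* ↥(alternatingGroup (Fin 8))) ∨ Nonempty (G ≃* ↥(alternatingGroup (Fin 9))) := by
  classical
  haveI : Fact (Nat.Prime 2) := ⟨Nat.prime_two⟩
  obtain ⟨x, y, b⟩ := B.cent32_base h ht h10 h01
  obtain ⟨-, -, h24A, h13A, h13Q, h13z, h131, h241, h24z, hne1, hne2⟩ := UT.end_facts
  obtain ⟨g, hg⟩ := isConj_iff.1 h13
  have hnwc : ∃ g : G, g * B.z * g⁻¹ ∈ B.Q ∧ g * B.z * g⁻¹ ≠ B.z :=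
    ⟨g, hg ▸ B.mem_Q.2 h13Q, fun e => h13z (B.inj (hg.symm.trans e))⟩
  rcases b.emb hnwc with ⟨e, v, hv2, hv4, hv⟩ | ⟨e, v, -, -, -⟩
  · rcases Cent32.exists_two e hv2 hv4 hv with ⟨N, hN, -, hsq, hc, -⟩ | hT
    · exfalso
      haveI := hN
      have hp : N ≤ pCore 2 G := Core.le_pCore (IsPGroup.of_card (n := 3) (by rw [hc]; norm_num))
      rw [h.pcore, le_bot_iff] at hp
      rw [hp, card_bot] at hc
      norm_num at hc
    · obtain ⟨T⟩ := hT
      obtain ⟨S⟩ := T.exists_seeded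
      exact S.eight_or_nine
  · exfalso
    have hA : ∀ a ∈ AS, ∃ m : M12Cent.M, e.ι m = B.f a := fun a _ =>
      e.mem_range (B.comm_z a).eq
    choose! m hm using hA
    have hone : ∀ a ∈ AS, m a = 1 → a = 1 := fun a ha h1 => B.inj (by
      rw [map_one, ← hm a ha, h1, map_one])
    have hz : ∀ a ∈ AS, m a = M12Cent.M.zM → a = zs := fun a ha h1 => B.inj (by
      rw [← hm a ha, h1, e.ι_z]; rfl)
    have hsq : ∀ a ∈ AS, m a * m a = 1 := fun a ha => e.inj (by
      rw [map_mul, hm a ha, map_one, ← map_mul, UT.AS_facts.2.1 a ha, map_one])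
    have hcm : ∀ a ∈ AS, ∀ c ∈ AS, m a * m c = m c * m a := fun a ha c hc => e.inj (by
      rw [map_mul, map_mul, hm a ha, hm c hc, ← map_mul, ← map_mul, UT.AS_facts.1 a ha c hc])
    have hlt := m_no_sixteen (m UT.x24) ⟨hsq _ h24A, fun e' => h241 (hone _ h24A e'),
      fun e' => h24z (hz _ h24A e')⟩ (m UT.x13) ⟨hsq _ h13A, hcm _ h24A _ h13A,
      fun e' => h131 (hone _ h13A e'), fun e' => h13z (hz _ h13A e'),
      fun e' => hne1 (B.inj (by rw [← hm _ h13A, ← hm _ h24A, e'])),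
      fun e' => hne2 (B.inj (by rw [← hm _ h13A, e', map_mul, map_mul, hm _ h24A, e.ι_z]; rfl))⟩
    refine absurd ?_ (not_le.2 hlt)
    unfold mCount
    rw [← UT.card_QS.2, ← Finset.card_univ]
    refine Finset.card_le_card_of_injOn (fun a : AS => m a) (fun a _ => ?_) fun a _ c _ hac => ?_
    · exact Finset.mem_filter.2 ⟨Finset.mem_univ _, hsq _ a.2, hcm _ a.2 _ h24A, hcm _ a.2 _ h13A⟩
    · exact Subtype.ext (B.inj (by rw [← hm _ a.2, ← hm _ c.2]; exact congrArg e.ι hac))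

end Base

end Cfsg.Agent.A8Type
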