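import Cfsg.Agent.A8Type.Cz.Cases
import Cfsg.Agent.A8Type.End.PTab
import Cfsg.Agent.PSp43Rec.PSpSide

/-!
The centralizer of the central involution without core and with both rotations is that of an involution
of `PSp(4,3)`.
-/

set_option autoImplicit false
set_option maxRecDepth 8000

namespace Cfsg.Agent.A8Type

open Subgroup PSp43Rec

theorem code_assoc {x y z : ℕ} (hx : x < 576) (hy : y < 576) (hz : z < 576) :
    mulC (mulC x y) z = mulC x (mulC y z) :=
  pspFrame.inj _ _ (mulC_lt (mulC_lt hx hy) hz) (mulC_lt hx (mulC_lt hy hz)) (by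
    rw [pspFrame.hmul _ _ (mulC_lt hx hy) hz, pspFrame.hmul _ _ hx hy,
      pspFrame.hmul _ _ hx (mulC_lt hy hz), pspFrame.hmul _ _ hy hz, mul_assoc])

theorem code_zero : ∀ x < 576, mulC x 0 = x := by
  have h : (all576 fun x => mulC x 0 == x) = true := by decide +kernel
  exact fun x hx => beq_iff_eq.1 (all576_spec h hx)

theorem rho_ne : ∀ i j : Fin 3, (∀ x ∈ QS, rho i j x = x) → i = 0 ∧ j = 0 := by decide +kernel

theorem fin3_pow {G : Type*} [Group G] {x : G} (hx : x ^ 3 = 1) (i k : Fin 3) :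
    x ^ (i : ℕ) * x ^ (k : ℕ) = x ^ ((i + k : Fin 3) : ℕ) := by
  rw [← pow_add, Fin.val_add]
  exact pow_eq_pow_mod _ hx

namespace Base

variable {G : Type*} [Group G] [Finite G] (B : Base G) (h : B.Simp)
include h

theorem cent_center (ht : theta B.z = ⊥) {w : G} (hw : Commute w B.z)
    (hq : ∀ q ∈ QS, w * B.f q * w⁻¹ = B.f q) : ∃ s ∈ [1, zs], w = B.f s := by
  obtain ⟨o, ho, s, hs, rfl⟩ :=
    B.cent_Q h hw fun q hqQ => mul_inv_eq_iff_eq_mul.1 (hq q hqQ)
  rw [ht, mem_bot] at ho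
  exact ⟨s, hs, by rw [ho, one_mul]⟩

/-- Elements of order three with the same action are equal. -/
theorem lift_unique (ht : theta B.z = ⊥) {m m' : G} (hm : Commute m B.z) (hm' : Commute m' B.z)
    (h3 : m ^ 3 = 1) (h3' : m' ^ 3 = 1) {ρ : UT → UT} (ha : B.Acts m ρ) (ha' : B.Acts m' ρ) : m' = m := by
  obtain ⟨s, hs, he⟩ := B.cent_center h ht (hm.inv_left.mul_left hm') fun q hq => by
    rw [show m⁻¹ * m' * B.f q * (m⁻¹ * m')⁻¹ = m⁻¹ * (m' * B.f q * m'⁻¹) * m by group, ha' q hq,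
      ← ha q hq]
    group
  have hme : m' = m * B.f s := by rw [← he, mul_inv_cancel_left]
  have hc : Commute m (B.f s) ∧ B.f s * B.f s = 1 := by
    simp only [List.mem_cons, List.not_mem_nil, or_false] at hs
    rcases hs with rfl | rfl
    · rw [map_one]; exact ⟨Commute.one_right _, one_mul 1⟩
    · exact ⟨hm, by rw [← map_mul, UT.zs_facts.2.1, map_one]⟩
  rw [hme, hc.1.mul_pow, h3, one_mul, pow_succ, sq, hc.2, one_mul] at h3'
  rw [hme, h3', mul_one]

/-- A rotation is induced by an element of order three. -/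
theorem lift_exists (ht : theta B.z = ⊥) {i j : Fin 3} (hr : B.Rot i j) :
    ∃ x : G, Commute x B.z ∧ x ^ 3 = 1 ∧ B.Acts x (rho i j) := by
  obtain ⟨n, hnz, hn⟩ := hr
  have h3 : ∀ q ∈ QS, n ^ 3 * B.f q * (n ^ 3)⁻¹ = B.f q := by
    intro q hq
    have e1 := UT.rho_mem i j q hq
    rw [cube_conj, hn q hq, hn _ e1, hn _ (UT.rho_mem i j _ e1), UT.rho_add i j i j q hq,
      UT.rho_add i j _ _ q hq, (show ∀ a : Fin 3, a + (a + a) = 0 by decide) i,
      (show ∀ a : Fin 3, a + (a + a) = 0 by decide) j, UT.rho_zero q hq]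
  obtain ⟨s, hs, he⟩ := B.cent_center h ht (hnz.pow_left 3) h3
  refine ⟨n ^ 4, hnz.pow_left 4, ?_, fun q hq => ?_⟩
  · have hs2 : B.f s * B.f s = 1 := by
      simp only [List.mem_cons, List.not_mem_nil, or_false] at hs
      rcases hs with rfl | rfl
      · rw [map_one, one_mul]
      · rw [← map_mul, UT.zs_facts.2.1, map_one]
    rw [← pow_mul, show 4 * 3 = 3 * (2 * 2) by norm_num, pow_mul, he, pow_mul, sq (B.f s), hs2, one_pow]
  · rw [show n ^ 4 = n ^ 3 * n from pow_succ n 3,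
      show n ^ 3 * n * B.f q * (n ^ 3 * n)⁻¹ = n ^ 3 * (n * B.f q * n⁻¹) * (n ^ 3)⁻¹ by group,
      hn q hq, h3 _ (UT.rho_mem i j q hq)]

/-- The parametrisation by the codes. -/
theorem exists_frame (ht : theta B.z = ⊥) (h10 : B.Rot 1 0) (h01 : B.Rot 0 1) :
    Nonempty (Frame B.z) := by
  classical
  obtain ⟨x, hxz, hx3, hx⟩ := B.lift_exists h ht h10
  obtain ⟨w, hwz, hw3, hw⟩ := B.lift_exists h ht h01
  set y := B.f UT.x23 with hy
  have hyy : y * y = 1 := by rw [hy, ← map_mul, UT.QS_gen_invol.2.2.2.2.2.1, map_one]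
  have hyi : y⁻¹ = y := inv_eq_of_mul_eq_one_right hyy
  have hyz : Commute y B.z := B.comm_z _
  have hyc : ∀ g : G, g ^ 3 = 1 → (y⁻¹ * g * y) ^ 3 = 1 := fun g hg => by
    rw [show y⁻¹ * g * y = y⁻¹ * g * y⁻¹⁻¹ by rw [inv_inv], conj_pow, hg, mul_one, mul_inv_cancel]
  have hyx : y⁻¹ * x * y = x⁻¹ := B.lift_unique h ht hxz.inv_left
    ((hyz.inv_left.mul_left hxz).mul_left hyz) (by rw [inv_pow, hx3, inv_one]) (hyc x hx3)
    (B.acts_inv_rho hx) (by rw [neg_zero]; exact B.acts_conj23 hx)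
  have hyw : y⁻¹ * w * y = w := B.lift_unique h ht hwz ((hyz.inv_left.mul_left hwz).mul_left hyz) hw3
    (hyc w hw3) hw (by have := B.acts_conj23 hw; rwa [neg_zero] at this)
  have hxw : Commute x w := by
    have h1 : x * w * x⁻¹ = w := B.lift_unique h ht hwz ((hxz.mul_left hwz).mul_left hxz.inv_left) hw3
      (by rw [conj_pow, hw3, mul_one, mul_inv_cancel]) hw (fun q hq => by
        rw [B.acts_comp (B.acts_comp hx hw (UT.rho_mem _ _)) (B.acts_inv_rho hx) (UT.rho_mem _ _) q hq]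
        dsimp only
        rw [UT.rho_add 0 1 _ _ q hq, UT.rho_add 1 0 _ _ q hq]
        rfl)
    exact mul_inv_eq_iff_eq_mul.1 h1
  let n : Fin 3 → Fin 3 → G := fun i j => x ^ (i : ℕ) * w ^ (j : ℕ)
  have hnz : ∀ i j, Commute (n i j) B.z := fun i j => (hxz.pow_left _).mul_left (hwz.pow_left _)
  have hn0 : n 0 0 = 1 := by simp [n]
  have hnmul : ∀ i j k l, n i j * n k l = n (i + k) (j + l) := fun i j k l => by
    show x ^ (i : ℕ) * w ^ (j : ℕ) * (x ^ (k : ℕ) * w ^ (l : ℕ)) = _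
    rw [(hxw.symm.pow_pow _ _).mul_mul_mul_comm, fin3_pow hx3, fin3_pow hw3]
  have hn : ∀ i j, B.Acts (n i j) (rho i j) := by
    have hxi : ∀ i, B.Acts (n i 0) (rho i 0) := by
      have h1 : B.Acts (n 1 0) (rho 1 0) := by simpa [n] using hx
      intro i
      rcases (show i = 0 ∨ i = 1 ∨ i = 1 + 1 by revert i; decide) with rfl | rfl | rfl
      · intro q hq; rw [hn0, UT.rho_zero q hq]; group
      · exact h1
      · intro q hq
        rw [show n (1 + 1) 0 = n 1 0 * n 1 0 by rw [hnmul, add_zero],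
          B.acts_comp h1 h1 (UT.rho_mem _ _) q hq]
        dsimp only
        rw [UT.rho_add 1 0 1 0 q hq, add_zero]
    have hwj : ∀ j, B.Acts (n 0 j) (rho 0 j) := by
      have h1 : B.Acts (n 0 1) (rho 0 1) := by simpa [n] using hw
      intro j
      rcases (show j = 0 ∨ j = 1 ∨ j = 1 + 1 by revert j; decide) with rfl | rfl | rfl
      · intro q hq; rw [hn0, UT.rho_zero q hq]; group
      · exact h1
      · intro q hq
        rw [show n 0 (1 + 1) = n 0 1 * n 0 1 by rw [hnmul, add_zero],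
          B.acts_comp h1 h1 (UT.rho_mem _ _) q hq]
        dsimp only
        rw [UT.rho_add 0 1 0 1 q hq, add_zero]
    intro i j q hq
    rw [show n i j = n i 0 * n 0 j by rw [hnmul, add_zero, zero_add],
      B.acts_comp (hxi i) (hwj j) (UT.rho_mem _ _) q hq]
    dsimp only
    rw [UT.rho_add i 0 0 j q hq, add_zero, zero_add]
  have hny : ∀ i j, n i j * y = y * n (-i) j := by
    intro i j
    have h1 : x ^ ((-i : Fin 3) : ℕ) = (x ^ (i : ℕ))⁻¹ := by
      refine (inv_eq_of_mul_eq_one_right ?_).symm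
      rw [fin3_pow hx3, add_neg_cancel]
      simp
    show x ^ (i : ℕ) * w ^ (j : ℕ) * y = y * (x ^ ((-i : Fin 3) : ℕ) * w ^ (j : ℕ))
    have hc : ∀ g : G, ∀ k : ℕ, (y⁻¹ * g * y) ^ k = y⁻¹ * g ^ k * y := fun g k => by
      rw [show y⁻¹ * g * y = y⁻¹ * g * y⁻¹⁻¹ by rw [inv_inv], conj_pow, inv_inv]
    have h2 : (x ^ (i : ℕ))⁻¹ = y⁻¹ * x ^ (i : ℕ) * y := by rw [← inv_pow, ← hyx, hc]
    have h3 : w ^ (j : ℕ) = y⁻¹ * w ^ (j : ℕ) * y := by rw [← hc, hyw]
    rw [h1, h2]
    nth_rewrite 2 [h3]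
    group
  let φ : PTab.Tri → G := fun p => B.f p.1 * n p.2.1 p.2.2
  have hφmul : ∀ p q, φ (PTab.tmul p q) = φ p * φ q := by
    rintro ⟨s, i, j⟩ ⟨t, k, l⟩
    have hQ : ∀ i j, ∀ q ∈ QS, n i j * B.f q = B.f (rho i j q) * n i j := fun i j q hq => by
      rw [← hn i j q hq]; group
    unfold PTab.tmul
    split_ifs with htQ
    · show B.f (s * rho i j t) * n (i + k) (j + l) = B.f s * n i j * (B.f t * n k l)
      rw [map_mul, ← hnmul, mul_assoc, ← mul_assoc (B.f (rho i j t)), ← hQ i j t htQ]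
      group
    · obtain ⟨q, hq, rfl⟩ := UT.QS_facts.2.2.2.2 t htQ
      show B.f (s * (UT.x23 * rho (-i) j (UT.x23 * (UT.x23 * q)))) * n (-i + k) (j + l) =
        B.f s * n i j * (B.f (UT.x23 * q) * n k l)
      rw [← mul_assoc UT.x23 UT.x23, UT.QS_gen_invol.2.2.2.2.2.1, one_mul, ← hnmul, map_mul, map_mul,
        map_mul, ← hy]
      calc B.f s * (y * B.f (rho (-i) j q)) * (n (-i) j * n k l)
          = B.f s * y * (B.f (rho (-i) j q) * n (-i) j) * n k l := by group
        _ = B.f s * (y * n (-i) j) * B.f q * n k l := by rw [← hQ _ _ q hq]; group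
        _ = B.f s * n i j * (y * B.f q * n k l) := by rw [← hny]; group
  have hφinj : Function.Injective φ := by
    rintro ⟨s, i, j⟩ ⟨t, k, l⟩ e
    have e' : B.f s * n i j = B.f t * n k l := e
    have h1 : n (i + -k) (j + -l) = B.f (s⁻¹ * t) := by
      have h3 : n k l * n (-k) (-l) = 1 := by rw [hnmul, add_neg_cancel, add_neg_cancel, hn0]
      rw [← hnmul, map_mul, map_inv]
      calc n i j * n (-k) (-l) = (B.f s)⁻¹ * (B.f s * n i j) * n (-k) (-l) := by group
        _ = (B.f s)⁻¹ * B.f t * (n k l * n (-k) (-l)) := by rw [e']; group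
        _ = (B.f s)⁻¹ * B.f t := by rw [h3, mul_one]
    have h8 : ∀ u : UT, u ^ 8 = 1 := by decide +kernel
    have h2 : n (i + -k) (j + -l) ^ 3 = 1 := by
      show (x ^ _ * w ^ _) ^ 3 = 1
      rw [(hxw.pow_pow _ _).mul_pow, ← pow_mul, mul_comm, pow_mul, hx3, one_pow, ← pow_mul, mul_comm,
        pow_mul, hw3, one_pow, one_mul]
    have h9 : (s⁻¹ * t) ^ 3 = 1 := B.inj (by rw [map_pow, ← h1, h2, map_one])
    have hst : s⁻¹ * t = 1 := by
      calc s⁻¹ * t = ((s⁻¹ * t) ^ 3) ^ 3 * ((s⁻¹ * t) ^ 8)⁻¹ := by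
            generalize s⁻¹ * t = a
            rw [← pow_mul, show 3 * 3 = 1 + 8 by norm_num, pow_add, pow_one, mul_inv_cancel_right]
        _ = 1 := by rw [h9, h8, one_pow, inv_one, one_mul]
    rw [hst, map_one] at h1
    obtain ⟨hi, hj⟩ := rho_ne _ _ fun q hq => B.inj (by
      rw [← hn (i + -k) (j + -l) q hq, h1]; group)
    rw [← sub_eq_add_neg, sub_eq_zero] at hi hj
    rw [inv_mul_eq_one] at hst
    rw [hst, hi, hj]
  have hmul : ∀ a b, a < 576 → b < 576 → φ (PTab.dec (mulC a b)) = φ (PTab.dec a) * φ (PTab.dec b) := by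
    have hgen : ∀ g ∈ [238, 415], ∀ a < 576,
        φ (PTab.dec (mulC a g)) = φ (PTab.dec a) * φ (PTab.dec g) := by
      intro g hg a ha
      simp only [List.mem_cons, List.not_mem_nil, or_false] at hg
      rcases hg with rfl | rfl
      · rw [of_decide_eq_true (all576_spec PTab.mul_gen.1 ha), hφmul]
      · rw [of_decide_eq_true (all576_spec PTab.mul_gen.2 ha), hφmul]
    have key : ∀ k, k < 576 → PTab.atPos k < 576 ∧ ∀ a < 576,
        φ (PTab.dec (mulC a (PTab.atPos k))) = φ (PTab.dec a) * φ (PTab.dec (PTab.atPos k)) := by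
      intro k
      induction k using Nat.strong_induction_on with
      | _ k ih =>
        intro hk
        have hstep := all576_spec PTab.tree.1 hk
        rcases eq_or_ne k 0 with rfl | hk0
        · rw [if_pos rfl, beq_iff_eq] at hstep
          refine ⟨by rw [hstep]; norm_num, fun a ha => ?_⟩
          rw [hstep, code_zero a ha, PTab.enc_dec.2.2.1]
          show φ (PTab.dec a) = φ (PTab.dec a) * (B.f 1 * n 0 0)
          rw [map_one, hn0, mul_one, mul_one]
        · rw [if_neg hk0, Bool.and_eq_true, beq_iff_eq] at hstep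
          have hp : PTab.par k < k := Nat.ble_eq.mp hstep.1
          obtain ⟨hlt, hih⟩ := ih _ hp (hp.trans hk)
          have hg : PTab.gen k ∈ [238, 415] := by unfold PTab.gen; split <;> simp
          have hg5 : PTab.gen k < 576 := by unfold PTab.gen; split <;> norm_num
          refine ⟨by rw [hstep.2]; exact mulC_lt hlt hg5, fun a ha => ?_⟩
          rw [hstep.2, ← code_assoc ha hlt hg5, hgen _ hg _ (mulC_lt ha hlt), hih a ha,
            hgen _ hg _ hlt, mul_assoc]
    intro a b ha hb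
    have hb' := all576_spec PTab.tree.2 hb
    rw [Bool.and_eq_true, beq_iff_eq] at hb'
    have h1 := (key _ (Nat.ble_eq.mp hb'.1)).2 a ha
    rwa [hb'.2] at h1
  refine ⟨{ f := fun a => φ (PTab.dec a), hmul := hmul, inj := ?_, comm := ?_, surj := ?_, h24 := ?_ }⟩
  · intro a b ha hb e
    rw [← beq_iff_eq.1 (all576_spec PTab.enc_dec.1 ha), ← beq_iff_eq.1 (all576_spec PTab.enc_dec.1 hb),
      hφinj e]
  · exact fun a _ => (B.comm_z _).mul_left (hnz _ _)
  · intro g hg
    obtain ⟨o, ho, s, m, ⟨hmz, i, j, hm⟩, rfl⟩ := B.exists_spl h hg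
    rw [ht, mem_bot] at ho
    obtain ⟨c, hc, he⟩ := B.cent_center h ht ((hnz i j).inv_left.mul_left hmz) fun q hq => by
      rw [show (n i j)⁻¹ * m * B.f q * ((n i j)⁻¹ * m)⁻¹ = (n i j)⁻¹ * (m * B.f q * m⁻¹) * n i j by group,
        hm q hq, ← hn i j q hq]
      group
    obtain ⟨hlt, hd⟩ := PTab.enc_dec.2.1 (s * c) i j
    refine ⟨_, hlt, ?_⟩
    show φ (PTab.dec _) = _
    rw [hd]
    show B.f (s * c) * n i j = o * B.f s * m
    rw [ho, one_mul, show m = n i j * B.f c by rw [← he, mul_inv_cancel_left], map_mul, mul_assoc]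
    congr 1
    simp only [List.mem_cons, List.not_mem_nil, or_false] at hc
    rcases hc with rfl | rfl
    · rw [map_one, one_mul, mul_one]
    · exact (hnz i j).eq.symm
  · show φ (PTab.dec 24) = B.z
    rw [PTab.enc_dec.2.2.2]
    show B.f zs * n 0 0 = B.f zs
    rw [hn0, mul_one]

theorem recog_psp (ht : theta B.z = ⊥) (h10 : B.Rot 1 0) (h01 : B.Rot 0 1) :
    ∃ (F : Type) (_ : Field F) (_ : Fintype F), Fintype.card F = 3 ∧ Nonempty (G ≃* Cfsg.PSp 2 F) := by
  haveI : Fact (Nat.Prime 3) := ⟨Nat.prime_three⟩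
  obtain ⟨F⟩ := B.exists_frame h ht h10 h01
  haveI : IsSimpleGroup (Cfsg.PSp 2 (ZMod 3)) :=
    Classical.isSimpleGroup_psp le_rfl fun _ => (ZMod.card 3).ge
  have hbig : 2 < Nat.card (Cfsg.PSp 2 (ZMod 3)) := by
    have := Subgroup.card_le_card_group (centralizer ({codePSp 24} : Set (Cfsg.PSp 2 (ZMod 3))))
    rw [pspFrame.card_centralizer] at this
    omega
  exact ⟨ZMod 3, inferInstance, inferInstance, ZMod.card 3,
    unique h.no_index_two (no_index_two_of_simple hbig) F pspFrame⟩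

end Base

end Cfsg.Agent.A8Type
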